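import Groth.Agent.Pi1.H395.PurityGen
import Groth.Agent.Sga2lef.H89.HtpCore
import Groth.Agent.CalgB.RegHom7
import Groth.Agent.S2487
import Groth.Agent.S2821
import Groth.Agent.EGA41.K100.GeomReg
import Groth.Agent.Pi1B.CIGlue

/-!
# Purity for the local rings of an adically formally smooth local homomorphism
-/

set_option autoImplicit false
universe u

open IsLocalRing TensorProduct AlgebraicGeometry CategoryTheory CategoryTheory.Limits

namespace K128.AdicPure

variable {A B : Type u} [CommRing A] [IsLocalRing A] [IsNoetherianRing A] [CommRing B]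
  [IsLocalRing B] [IsNoetherianRing B] [Algebra A B] [IsLocalHom (algebraMap A B)]

/-- Geometric regularity of a fibre passes to a localization of the source of the fibre. -/
theorem isGeometricallyRegular_fiber {R S : Type u} [CommRing R] [CommRing S] [Algebra R S]
    (p : Ideal R) [p.IsPrime] (T : Type u) [CommRing T] [Algebra S T] [Algebra R T] [IsScalarTower R S T]
    (M : Submonoid S) [IsLocalization M T]
    (h : CAlg.IsGeometricallyRegular p.ResidueField (p.Fiber S)) :
    CAlg.IsGeometricallyRegular p.ResidueField (p.Fiber T) := by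
  intro k' _ _ hk'
  let _ : Algebra R k' := ((algebraMap p.ResidueField k').comp (algebraMap R p.ResidueField)).toAlgebra
  have : IsScalarTower R p.ResidueField k' := .of_algebraMap_eq fun _ => rfl
  have h1 : IsRegularRing (k' ⊗[p.ResidueField] (p.Fiber S)) := h k' hk'
  have h2 : IsRegularRing (k' ⊗[R] S) :=
    IsRegularRing.of_ringEquiv
      (Algebra.TensorProduct.cancelBaseChange R p.ResidueField p.ResidueField k' S).toRingEquiv
  have h3 : IsRegularRing (k' ⊗[R] T) :=
    Groth.Agent.CalgB.RegHom2.isRegularRing_tensor_localization_right (R := R) k' (A := S) T M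
  exact IsRegularRing.of_ringEquiv
    (Algebra.TensorProduct.cancelBaseChange R p.ResidueField p.ResidueField k' T).symm.toRingEquiv

/-- The local homomorphism `A → B_q` at a prime over the maximal ideal. -/
theorem isAdicFormallySmooth_atPrime (h : CAlgX.IsAdicFormallySmooth A B (maximalIdeal B))
    (q : Ideal B) [q.IsPrime] (hq : q.comap (algebraMap A B) = maximalIdeal A) :
    ∃ _ : IsLocalHom (algebraMap A (Localization.AtPrime q)),
    CAlgX.IsAdicFormallySmooth A (Localization.AtPrime q) (maximalIdeal (Localization.AtPrime q)) := by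
  have hloc : IsLocalHom (algebraMap A (Localization.AtPrime q)) := ⟨fun a ha => by
    by_contra hn
    have h1 : algebraMap A B a ∈ q := by
      have : a ∈ q.comap (algebraMap A B) := by rw [hq]; exact hn
      exact this
    rw [IsScalarTower.algebraMap_apply A B (Localization.AtPrime q)] at ha
    exact (IsLocalization.AtPrime.isUnit_to_map_iff (Localization.AtPrime q) q _).1 ha h1⟩
  refine ⟨hloc, ?_⟩
  have hn : IsNoetherianRing (Localization.AtPrime q) :=
    IsLocalization.isNoetherianRing q.primeCompl _ inferInstance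
  obtain ⟨h1, h2⟩ := Groth.Agent.S2038.result.2 h
  refine Groth.Agent.S2038.result.1 ⟨?_, isGeometricallyRegular_fiber _ _ q.primeCompl h2⟩
  have : Module.Flat B (Localization.AtPrime q) := inferInstance
  exact Module.Flat.trans A B _

/-- The fibre of `A → B_q` has positive dimension when `q` is not contained in `m_A B`. -/
theorem one_le_ringKrullDim_fib (h : CAlgX.IsAdicFormallySmooth A B (maximalIdeal B))
    (q : Ideal B) [q.IsPrime] (hq : q.comap (algebraMap A B) = maximalIdeal A)
    (hne : q ≠ (maximalIdeal A).map (algebraMap A B)) [IsLocalHom (algebraMap A (Localization.AtPrime q))] :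
    1 ≤ ringKrullDim (EGA4.FibRing A (Localization.AtPrime q)) := by
  have hn : IsNoetherianRing (Localization.AtPrime q) :=
    IsLocalization.isNoetherianRing q.primeCompl _ inferInstance
  obtain ⟨_, h'⟩ := isAdicFormallySmooth_atPrime h q hq
  have hr : IsRegularLocalRing (EGA4.FibRing A B) := Groth.Agent.S2487.isRegularLocalRing_fibre h
  have hd : IsDomain (EGA4.FibRing A B) := (Groth.Agent.S2821.result _).1
  have hr' : IsRegularLocalRing (EGA4.FibRing A (Localization.AtPrime q)) :=
    Groth.Agent.S2487.isRegularLocalRing_fibre h'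
  have hd' : IsDomain (EGA4.FibRing A (Localization.AtPrime q)) := (Groth.Agent.S2821.result _).1
  by_contra hcon
  obtain ⟨n, hn'⟩ := Groth.Agent.Ega4C.FlatLocal.exists_ringKrullDim_eq
    (R := EGA4.FibRing A (Localization.AtPrime q))
  have h0 : ringKrullDim (EGA4.FibRing A (Localization.AtPrime q)) = 0 := by
    rw [hn'] at hcon ⊢
    norm_cast at hcon ⊢
    omega
  have hbot : maximalIdeal (EGA4.FibRing A (Localization.AtPrime q)) = ⊥ := by
    rw [← Ideal.height_eq_zero_iff_eq_bot]
    rw [← maximalIdeal_height_eq_ringKrullDim] at h0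
    exact_mod_cast h0
  apply hne
  have hle : (maximalIdeal A).map (algebraMap A B) ≤ q := by
    rw [Ideal.map_le_iff_le_comap, hq]
  refine le_antisymm (fun f hf => ?_) hle
  have h1 : algebraMap B (Localization.AtPrime q) f ∈ maximalIdeal (Localization.AtPrime q) :=
    (IsLocalization.AtPrime.to_map_mem_maximal_iff _ q f).2 hf
  have h2 : Ideal.Quotient.mk (EGA4.mB A (Localization.AtPrime q))
      (algebraMap B (Localization.AtPrime q) f) ∈
        maximalIdeal (EGA4.FibRing A (Localization.AtPrime q)) := by
    rw [← map_maximalIdeal_of_surjective (Ideal.Quotient.mk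
      (EGA4.mB A (Localization.AtPrime q))) Ideal.Quotient.mk_surjective]
    exact Ideal.mem_map_of_mem _ h1
  rw [hbot, Ideal.mem_bot, Ideal.Quotient.eq_zero_iff_mem, EGA4.mB,
    IsScalarTower.algebraMap_eq A B (Localization.AtPrime q), ← Ideal.map_map,
    IsLocalization.mem_map_algebraMap_iff q.primeCompl] at h2
  obtain ⟨⟨⟨y, hy⟩, s⟩, hs⟩ := h2
  rw [← map_mul] at hs
  obtain ⟨c, hc⟩ := (IsLocalization.eq_iff_exists q.primeCompl _).1 hs
  change (c : B) * (f * s) = c * y at hc
  have h3 : (c * s) * f ∈ (maximalIdeal A).map (algebraMap A B) := by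
    have : ((c : B) * s) * f = c * (f * s) := by ring
    rw [this, hc]
    exact Ideal.mul_mem_left _ _ hy
  have hp : ((maximalIdeal A).map (algebraMap A B)).IsPrime :=
    (Ideal.Quotient.isDomain_iff_prime _).1 hd
  rcases hp.mem_or_mem h3 with h4 | h4
  · exact absurd (hle h4) (q.primeCompl.mul_mem c.2 s.2)
  · exact h4

theorem one_le_ringKrullDim (hA : (2 : ℕ∞) ≤ LocCoh.depth A A) : 1 ≤ ringKrullDim A := by
  have h1 := Groth.Agent.Ega4C.FlatLocal.depth_le_ringKrullDim (R := A)
  obtain ⟨n, hn⟩ := Groth.Agent.Ega4C.FlatLocal.exists_ringKrullDim_eq (R := A)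
  obtain ⟨d, hd⟩ := Groth.Agent.Ega4C.FlatLocal.exists_depth_eq (R := A)
  rw [hd] at hA h1
  rw [hn] at h1 ⊢
  norm_cast at hA h1 ⊢
  omega

/-- Purity and depth at the primes over `m_A` other than `m_A B`. -/
theorem purityHolds_atPrime (hA : (2 : ℕ∞) ≤ LocCoh.depth A A)
    (h : CAlgX.IsAdicFormallySmooth A B (maximalIdeal B))
    (q : Ideal B) [q.IsPrime] (hq : q.comap (algebraMap A B) = maximalIdeal A)
    (hne : q ≠ (maximalIdeal A).map (algebraMap A B)) :
    FEt.PurityHolds (Localization.AtPrime q) ∧
      (2 : ℕ∞) ≤ LocCoh.depth (Localization.AtPrime q) (Localization.AtPrime q) := by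
  have hn : IsNoetherianRing (Localization.AtPrime q) :=
    IsLocalization.isNoetherianRing q.primeCompl _ inferInstance
  obtain ⟨hl, h'⟩ := isAdicFormallySmooth_atPrime h q hq
  have h1 := one_le_ringKrullDim_fib h q hq hne
  have hfl : Module.Flat A (Localization.AtPrime q) := (Groth.Agent.S2038.result.2 h').1
  refine ⟨(Groth.Agent.Pi1.H395.PurityGen.main h' (Or.inl ⟨h1, one_le_ringKrullDim hA⟩)).2, ?_⟩
  rw [Groth.Agent.Ega4C.FlatLocal.depth_eq A (Localization.AtPrime q)]
  exact hA.trans le_self_add

end K128.AdicPure
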